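import Groth.Prelude.Def_Neron
import Mathlib

/-!
# The group law of an object with the mapping property of a Néron model
-/

set_option autoImplicit false
set_option backward.isDefEq.respectTransparency false
set_option synthInstance.maxHeartbeats 200000

universe u v w z

open CategoryTheory MonoidalCategory CartesianMonoidalCategory MonObj AlgebraicGeometry

namespace Groth.Agent.NeronGrp

variable {C : Type u} [Category.{v} C] [CartesianMonoidalCategory C]
  {D : Type w} [Category.{z} D] [CartesianMonoidalCategory D]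
  (F : C ⥤ D) {N : C} {A : D} [GrpObj A] (e : F.obj N ⟶ A) (P : C → Prop)

/-- A group law on `N` from one on `A`, when maps from good objects to `N` are maps to `A`. -/
noncomputable def grpObj (hP1 : P (𝟙_ C)) (hN : P N) (hP2 : P (N ⊗ N)) (hP3 : P ((N ⊗ N) ⊗ N))
    (hP4 : P (𝟙_ C ⊗ N)) (hP5 : P (N ⊗ 𝟙_ C))
    (h : ∀ Y, P Y → Function.Bijective (fun g : Y ⟶ N => F.map g ≫ e)) : GrpObj N :=
  let bij (Y : C) (hY : P Y) := Equiv.ofBijective _ (h Y hY)
  let m := (bij _ hP2).symm ((F.map (fst N N) ≫ e) * (F.map (snd N N) ≫ e))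
  let one := (bij _ hP1).symm 1
  let inv := (bij _ hN).symm (F.map (𝟙 N) ≫ e)⁻¹
  have hm : ∀ {X : C} (f : X ⟶ N ⊗ N),
      F.map (f ≫ m) ≫ e = (F.map (f ≫ fst N N) ≫ e) * (F.map (f ≫ snd N N) ≫ e) := fun f => by
    have h1 : F.map m ≫ e = _ := (bij _ hP2).apply_symm_apply _
    rw [F.map_comp, Category.assoc, h1, MonObj.comp_mul, ← Category.assoc, ← Category.assoc,
      ← F.map_comp, ← F.map_comp]
  have hone : ∀ {X : C} (f : X ⟶ 𝟙_ C), F.map (f ≫ one) ≫ e = 1 := fun f => by
    have h1 : F.map one ≫ e = _ := (bij _ hP1).apply_symm_apply _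
    rw [F.map_comp, Category.assoc, h1, MonObj.comp_one]
  have hinv : ∀ {X : C} (f : X ⟶ N), F.map (f ≫ inv) ≫ e = (F.map f ≫ e)⁻¹ := fun f => by
    have h1 : F.map inv ≫ e = _ := (bij _ hN).apply_symm_apply _
    rw [F.map_comp, Category.assoc, h1, GrpObj.comp_inv, F.map_id, Category.id_comp]
  { one := one
    mul := m
    one_mul := (h _ hP4).injective (by
      change F.map _ ≫ e = F.map _ ≫ e
      rw [hm, whiskerRight_fst, whiskerRight_snd, hone, _root_.one_mul, leftUnitor_hom])
    mul_one := (h _ hP5).injective (by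
      change F.map _ ≫ e = F.map _ ≫ e
      rw [hm, whiskerLeft_fst, whiskerLeft_snd, hone, _root_.mul_one, rightUnitor_hom])
    mul_assoc := (h _ hP3).injective (by
      change F.map _ ≫ e = F.map _ ≫ e
      rw [hm, whiskerRight_fst, whiskerRight_snd, hm, ← Category.assoc _ _ m, hm, Category.assoc,
        whiskerLeft_fst, Category.assoc, whiskerLeft_snd, ← Category.assoc _ _ m, hm, Category.assoc,
        associator_hom_fst, associator_hom_snd_fst, Category.assoc, associator_hom_snd_snd, _root_.mul_assoc])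
    inv := inv
    left_inv := (h _ hN).injective (by
      change F.map _ ≫ e = F.map _ ≫ e
      rw [hm, lift_fst, lift_snd, hone]
      have := hinv (𝟙 N)
      rw [Category.id_comp] at this
      rw [this, inv_mul_cancel])
    right_inv := (h _ hN).injective (by
      change F.map _ ≫ e = F.map _ ≫ e
      rw [hm, lift_fst, lift_snd, hone]
      have := hinv (𝟙 N)
      rw [Category.id_comp] at this
      rw [this, mul_inv_cancel]) }

variable {R : Type u} [CommRing R] [IsDomain R]

/-- A Néron model of a group scheme is a group scheme. -/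
theorem exists_grpObj_of_isNeronModelOf (N : Over (Spec (CommRingCat.of R)))
    (A : Over (Spec (CommRingCat.of (FractionRing R)))) [GrpObj A]
    (e : (Neron.genericFibre R).obj N ≅ A) (hN : Neron.IsNeronModelOf R N A e) : Nonempty (GrpObj N) := by
  obtain ⟨hs, -, -, -, hm⟩ := hN
  haveI := hs
  have h1 : Smooth (𝟙_ (Over (Spec (CommRingCat.of R)))).hom := inferInstanceAs (Smooth (𝟙 _))
  have h2 : ∀ (X Y : Over (Spec (CommRingCat.of R))), Smooth X.hom → Smooth Y.hom → Smooth (X ⊗ Y).hom :=
    fun X Y hX hY => by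
      haveI := hX; haveI := hY
      exact inferInstanceAs (Smooth (Limits.pullback.fst X.hom Y.hom ≫ X.hom))
  exact ⟨grpObj (Neron.genericFibre R) e.hom (fun Y => Smooth Y.hom) h1 hs (h2 _ _ hs hs)
    (h2 _ _ (h2 _ _ hs hs) hs) (h2 _ _ h1 hs) (h2 _ _ hs h1) hm⟩

end Groth.Agent.NeronGrp
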